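import Cfsg.Agent.DC.Std
import Cfsg.Agent.Trans.SylowIn

/-! Permutation lemmas and core-free lemmas for `Int2/Inv` (helper93). -/

set_option autoImplicit false

namespace Cfsg.Lib.Int2.IP

open Equiv Subgroup Cfsg.Lib.DC Cfsg.Lib.Known Cfsg.Lib.Trans

variable {Ω : Type*} [Fintype Ω] [DecidableEq Ω]

section Perms
variable {σ ρ τ : Perm Ω} {a b c : Ω}

theorem sign_of_invol (h1 : τ * τ = 1) (h4 : 4 ∣ τ.support.card) : Perm.sign τ = 1 := by
  by_cases h : τ = 1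
  · rw [h, map_one]
  have := orderOf_eq_prime (p := 2) (by rw [pow_two, h1]) h
  obtain ⟨n, hn⟩ := Perm.cycleType_prime_order (σ := τ) (by rw [this]; exact Nat.prime_two)
  rw [this] at hn
  rw [← Perm.sum_cycleType, hn] at h4
  rw [Perm.sign_of_cycleType, hn]
  simp only [Multiset.sum_replicate, smul_eq_mul, Multiset.card_replicate] at h4 ⊢
  exact Even.neg_one_pow ⟨3 * ((n + 1) / 2), by omega⟩

theorem exists_eight (h8 : 8 ≤ Fintype.card Ω) :
    ∃ τ : Perm Ω, τ * τ = 1 ∧ τ.support.card = 8 := by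
  obtain ⟨τ, h⟩ := (Perm.exists_with_cycleType_iff Ω (m := Multiset.replicate 4 2)).2
    ⟨by simpa using h8, fun a ha => (Multiset.eq_of_mem_replicate ha).ge⟩
  refine ⟨τ, ?_, by rw [← Perm.sum_cycleType, h]; simp⟩
  rw [← pow_two, ← orderOf_dvd_iff_pow_eq_one, ← Perm.lcm_cycleType, h]
  decide

/-- The permutations preserving all cycles of the involution `τ`. -/
def E0 (τ : Perm Ω) (hτ : ∀ x, τ (τ x) = x) : Subgroup (Perm Ω) where
  carrier := {σ | Commute σ τ ∧ ∀ a, σ a = a ∨ σ a = τ a}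
  one_mem' := ⟨Commute.one_left _, fun _ => Or.inl rfl⟩
  mul_mem' {σ ρ} h1 h2 := ⟨h1.1.mul_left h2.1, fun a => by
    have e := comm_apply h1.1 a
    have e1 := h1.2 a
    have e2 := h2.2 a
    have e3 := hτ a
    rw [Perm.mul_apply]
    grind⟩
  inv_mem' {σ} h := ⟨h.1.inv_left, fun a => by
    have e := comm_apply h.1 a
    have e1 := h.2 a
    have e3 := hτ a
    simp only [Perm.inv_eq_iff_eq]
    grind⟩

theorem E0_eq_1' : type_of% @E0.eq_1 := @E0.eq_1

omit [Fintype Ω] [DecidableEq Ω] in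
theorem mem_E0 {hτ : ∀ x, τ (τ x) = x} :
    σ ∈ E0 τ hτ ↔ Commute σ τ ∧ ∀ a, σ a = a ∨ σ a = τ a := Iff.rfl

omit [Fintype Ω] [DecidableEq Ω] in
theorem sq_E0 {hτ : ∀ x, τ (τ x) = x} (h : σ ∈ E0 τ hτ) : σ * σ = 1 := by
  ext a
  have e := comm_apply h.1 a
  have e1 := h.2 a
  have e3 := hτ a
  rw [Perm.mul_apply, Perm.one_apply]
  grind

omit [Fintype Ω] [DecidableEq Ω] in
theorem conj_E0 {hτ : ∀ x, τ (τ x) = x} (h : σ ∈ E0 τ hτ) (hρ : Commute ρ τ) :
    ρ * σ * ρ⁻¹ ∈ E0 τ hτ :=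
  ⟨(hρ.mul_left h.1).mul_left hρ.inv_left, fun a => by
    rw [Perm.mul_apply, Perm.mul_apply]
    rcases h.2 (ρ⁻¹ a) with e | e
    · left; rw [e]; simp
    · right; rw [e, comm_apply hρ]; simp⟩

omit [Fintype Ω] in
theorem cy_mem_E0 (hτ : ∀ x, τ (τ x) = x) (a : Ω) : cy τ a ∈ E0 τ hτ := by
  refine ⟨?_, fun x => ?_⟩
  · have := conj_cy (Commute.refl τ) a
    rw [cy, cy, hτ, swap_comm (τ a)] at this
    exact (mul_inv_eq_iff_eq_mul.1 this).symm
  · have := hτ a
    simp only [cy, swap_apply_def]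
    grind

theorem cyc (hτ : ∀ x, τ (τ x) = x) (h4 : 4 < τ.support.card) (hc : Commute σ τ)
    (h : ∀ a b, Ap τ a b → Commute σ (cy τ a * cy τ b)) (ha : τ a ≠ a) : σ a = a ∨ σ a = τ a := by
  by_contra! hn
  obtain ⟨b, hb, hab⟩ := exists_not_mem_of_card (S := τ.support) (T := {a, τ a, σ a, τ (σ a)})
    (Finset.card_le_four.trans_lt h4)
  rw [Perm.mem_support] at hb
  simp only [Finset.mem_insert, Finset.mem_singleton, not_or] at hab
  have e := comm_apply (h a b ⟨ha, hb, hab.1, hab.2.1⟩) a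
  have e1 := comm_apply hc a
  have e2 := hτ a
  have e3 := hτ b
  have e4 : σ (τ a) ≠ σ a := fun e => ha (σ.injective e)
  simp only [cy, Perm.mul_apply, swap_apply_def] at e
  grind

omit [Fintype Ω] [DecidableEq Ω] in
theorem fix_of_odd {n : ℕ} (hn : Odd n) (h : σ ^ n = 1) (h2 : σ (σ a) = a) : σ a = a := by
  obtain ⟨k, rfl⟩ := hn
  have h3 : (σ ^ (2 * k)) a = a := by
    rw [pow_mul]
    exact Perm.pow_apply_eq_self_of_apply_eq_self (by rw [pow_two]; exact h2) k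
  have := congrArg (fun f : Perm Ω => f a) h
  simpa [pow_succ', h3] using this

theorem exists_three (h4 : 4 < τ.support.card) : ∃ a b c, Ap τ a b ∧ Ap τ a c ∧ Ap τ b c := by
  obtain ⟨a, ha, -⟩ := exists_not_mem_of_card (S := τ.support) (T := ∅)
    (by rw [Finset.card_empty]; omega)
  obtain ⟨b, hb, hab⟩ := exists_not_mem_of_card (S := τ.support) (T := {a, τ a})
    (Finset.card_le_two.trans_lt (by omega))
  obtain ⟨c, hc', hbc⟩ := exists_not_mem_of_card (S := τ.support) (T := {a, τ a, b, τ b})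
    (Finset.card_le_four.trans_lt h4)
  rw [Perm.mem_support] at ha hb hc'
  simp only [Finset.mem_insert, Finset.mem_singleton, not_or] at hab hbc
  exact ⟨a, b, c, ⟨ha, hb, hab.1, hab.2⟩, ⟨ha, hc', hbc.1, hbc.2.1⟩,
    ⟨hb, hc', hbc.2.2.1, hbc.2.2.2⟩⟩

theorem exists_block (hτ : ∀ x, τ (τ x) = x) (h1 : Ap τ a b) (h2 : Ap τ a c) (h3 : Ap τ b c) :
    ∃ σ : Perm Ω, Perm.sign σ = 1 ∧ σ ^ 3 = 1 ∧ Commute τ σ ∧ σ a = b ∧ σ b = c ∧ σ c = a := by
  have n1 := h1.nodup hτ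
  have n2 := h2.nodup hτ
  have n3 := h3.nodup hτ
  simp only [List.nodup_cons, List.mem_cons, List.not_mem_nil, not_or] at n1 n2 n3
  have m1 : c3 a b c ∈ altOn ({a, b, c} : Set Ω) :=
    c3_mem_altOn n1.1.2.1 n2.1.2.1 (by simp) (by simp) (by simp)
  have m2 : c3 (τ a) (τ b) (τ c) ∈ altOn ({τ a, τ b, τ c} : Set Ω) :=
    c3_mem_altOn n1.2.1.2.1 n2.2.1.2.1 (by simp) (by simp) (by simp)
  have hcm := commute_of_mem_altOn (by
    simp only [Set.disjoint_left, Set.mem_insert_iff, Set.mem_singleton_iff]; grind) m1 m2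
  refine ⟨c3 a b c * c3 (τ a) (τ b) (τ c), by rw [map_mul, m1.1, m2.1, one_mul], by
    rw [hcm.mul_pow, c3_pow_three n1.1.2.1 n2.1.2.1 n3.1.2.1,
      c3_pow_three n1.2.1.2.1 n2.2.1.2.1 n3.2.1.2.1, one_mul], ?_, ?_, ?_, ?_⟩
  · refine mul_inv_eq_iff_eq_mul.1 ?_
    rw [show ∀ a b : Perm Ω, τ * (a * b) * τ⁻¹ = τ * a * τ⁻¹ * (τ * b * τ⁻¹) from
      fun a b => by group, conj_c3, conj_c3, hτ, hτ, hτ, hcm.eq]
  all_goals
    simp only [c3, Perm.mul_apply, swap_apply_def]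
    grind

end Perms

section Model
variable {X : Type*} [Group X] {ζ : X} {L : Subgroup X} {q : X → Perm Ω} {t u w r : X} {a b : Ω}

theorem commute_cy (h : SC ζ L q) (ht : Commute t ζ) (hτ : ∀ x, q t (q t x) = x) (n : Ap (q t) a b)
    (hu : u ∈ L) (e : q u = cy (q t) a * cy (q t) b) : Commute u t := by
  have := (Commute.refl u).mul_right (h.commute_of_fix (P := {a, q t a, b, q t b})
    ((h.comm_z hu).inv_left.mul_left ht) (fun x hx => by
      rw [h.mul (h.comm_z hu).inv_left ht, h.p_inv (h.comm_z hu), e, n.strip_apply hτ,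
        if_pos (by simpa using hx)]) hu (e ▸ n.mem_altOn)).symm
  rwa [mul_inv_cancel_left] at this

theorem sq_dt (h : SC ζ L q) {a b c d : Ω} (n : [a, b, c, d].Nodup) (hu : u ∈ L)
    (e : q u = swap a b * swap c d) : u * u = ζ :=
  congrArg Subtype.val (h.cv.sq _ _ _ _ n ⟨u, hu⟩ e)

theorem anti (h : SC ζ L q) (hu : u ∈ L) (hw : w ∈ L) (h1 : u * u = ζ) (h2 : w * w = ζ)
    (h3 : u * w * (u * w) = ζ) : u * w = w * u * ζ :=
  congrArg Subtype.val (Cov.anti_of_sq h.cv.toPre (h := ⟨u, hu⟩) (k := ⟨w, hw⟩) (Subtype.ext h1)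
    (Subtype.ext h2) (Subtype.ext h3))

theorem exists_cube (h : SC ζ L q) {σ : Perm Ω} (h1 : Perm.sign σ = 1) (h3 : σ ^ 3 = 1) :
    ∃ x ∈ L, q x = σ ∧ x ^ 3 = 1 := by
  obtain ⟨x, e, x3⟩ := h.cv.exists_cube h1 h3
  exact ⟨x, x.2, e, congrArg Subtype.val x3⟩

/-- A quaternion group generated inside the closure of the elements of order three. -/
theorem exists_quat (h : SC ζ L q) (h8 : 8 ≤ Fintype.card Ω) (ht : Commute t ζ) (h2 : t * t = 1)
    {D : Subgroup X} (hD : ∀ x ∈ L, Commute x t → x ^ 3 = 1 → x ∈ D) :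
    ∃ u ∈ D, ∃ w ∈ D, u * u = ζ ∧ w * w = ζ ∧ u * w * (u * w) = ζ := by
  have hτ := invol_of_mul_self (τ := q t) (by rw [← h.mul ht ht, h2, h.p_one])
  by_cases hc : 4 < (q t).support.card
  · obtain ⟨a, b, c, n1, n2, n3⟩ := exists_three hc
    obtain ⟨σ, s1, s3, sc, sa, sb, sc'⟩ := exists_block hτ n1 n2 n3
    obtain ⟨x, hx, rfl, x3⟩ := exists_cube h s1 s3
    have xt : Commute x t := (h.commute_of_cube ht hx sc x3).symm
    obtain ⟨u, hu, e1⟩ := h.exists_lift n1.sign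
    have ut := commute_cy h ht hτ n1 hu e1
    have xD := hD x hx xt x3
    have yD := hD (u * x * u⁻¹) (mul_mem (mul_mem hu hx) (inv_mem hu))
      ((ut.mul_left xt).mul_left ut.inv_left) (by rw [conj_pow, x3]; group)
    have hv : u * x * u⁻¹ * x⁻¹ ∈ L := mul_mem (mul_mem (mul_mem hu hx) (inv_mem hu)) (inv_mem hx)
    have ev : q (u * x * u⁻¹ * x⁻¹) = cy (q t) a * cy (q t) c := by
      have : q u⁻¹ = q u := by
        rw [h.p_inv (h.comm_z hu), e1, mul_inv_rev, (cy_comm hτ a _).eq]; simp [cy]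
      rw [show u * x * u⁻¹ * x⁻¹ = u * (x * u⁻¹ * x⁻¹) by group, h.mul (h.comm_z hu)
        (h.comm_z (mul_mem (mul_mem hx (inv_mem hu)) (inv_mem hx))),
        h.p_conj (h.comm_z hx) (h.comm_z (inv_mem hu)), this, e1, conj_cy_cy sc.symm, sa, sb,
        mul_assoc, ← mul_assoc (cy _ b), cy_mul_self, one_mul]
    have vD : u * x * u⁻¹ * x⁻¹ ∈ D := mul_mem yD (inv_mem xD)
    generalize u * x * u⁻¹ * x⁻¹ = v at hv ev vD
    have hw : x * v * x⁻¹ ∈ L := mul_mem (mul_mem hx hv) (inv_mem hx)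
    have ew : q (x * v * x⁻¹) = cy (q t) b * cy (q t) a := by
      rw [h.p_conj (h.comm_z hx) (h.comm_z hv), ev, conj_cy_cy sc.symm, sa, sc']
    refine ⟨x * v * x⁻¹, mul_mem (mul_mem xD vD) (inv_mem xD), v, vD,
      sq_dt h ((n1.symm hτ).nodup hτ) hw ew, sq_dt h (n2.nodup hτ) hv ev,
      sq_dt h (n3.nodup hτ) (mul_mem hw hv) ?_⟩
    rw [h.mul (h.comm_z hw) (h.comm_z hv), ew, ev, mul_assoc, ← mul_assoc (cy _ a), cy_mul_self,
      one_mul]
    rfl
  · have h4 : 3 < ((q t).supportᶜ).card := by rw [Finset.card_compl]; omega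
    obtain ⟨s, hs, hs4⟩ := Finset.exists_subset_card_eq h4
    obtain ⟨a, b, c, d, n1, n2, n3, n4, n5, n6, rfl⟩ := Finset.card_eq_four.1 hs4
    have hf : ∀ x ∈ ({a, b, c, d} : Set Ω), q t x = x := fun x hx => by
      simpa using hs (show x ∈ ({a, b, c, d} : Finset Ω) by simpa using hx)
    have key : ∀ i j k, i ∈ ({a, b, c, d} : Set Ω) → j ∈ ({a, b, c, d} : Set Ω) →
        k ∈ ({a, b, c, d} : Set Ω) → i ≠ j → i ≠ k → j ≠ k →
        ∃ y ∈ L, y ∈ D ∧ q y = c3 i j k := fun i j k hi hj hk m1 m2 m3 => by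
      obtain ⟨y, hy, e, y3⟩ := exists_cube h (sign_c3 m1 m2) (c3_pow_three m1 m2 m3)
      exact ⟨y, hy, hD y hy (h.commute_of_fix ht hf hy (e ▸ c3_mem_altOn m1 m2 hi hj hk)).symm y3,
        e⟩
    obtain ⟨y1, l1, d1, e1⟩ := key a b d (by simp) (by simp) (by simp) n1 n3 n5
    obtain ⟨y2, l2, d2, e2⟩ := key c b d (by simp) (by simp) (by simp) n4.symm n6 n5
    obtain ⟨y3, l3, d3, e3⟩ := key a c d (by simp) (by simp) (by simp) n2 n3 n6
    obtain ⟨y4, l4, d4, e4⟩ := key b c d (by simp) (by simp) (by simp) n4 n5 n6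
    have m1 : [a, b, c, d].Nodup := by simp [n1, n2, n3, n4, n5, n6]
    have m2 : [a, c, b, d].Nodup := by simp [n1, n2, n3, n4.symm, n5, n6]
    have eu : q (y1 * y2) = swap a b * swap c d := by
      rw [h.mul (h.comm_z l1) (h.comm_z l2), e1, e2, c3_mul_c3 m1]
    have ew : q (y3 * y4) = swap a c * swap b d := by
      rw [h.mul (h.comm_z l3) (h.comm_z l4), e3, e4, c3_mul_c3 m2]
    refine ⟨y1 * y2, mul_mem d1 d2, y3 * y4, mul_mem d3 d4, sq_dt h m1 (mul_mem l1 l2) eu,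
      sq_dt h m2 (mul_mem l3 l4) ew, sq_dt h (a := a) (b := d) (c := b) (d := c)
        (by simp [n1, n2, n3, n4, n5.symm, n6.symm]) (mul_mem (mul_mem l1 l2) (mul_mem l3 l4)) ?_⟩
    rw [h.mul (h.comm_z (mul_mem l1 l2)) (h.comm_z (mul_mem l3 l4)), eu, ew]
    ext x
    simp only [Perm.mul_apply, swap_apply_def]
    grind

/-- An involution acting nontrivially is conjugate to its product with `ζ`. -/
theorem exists_conj_mul (h : SC ζ L q) (h4 : 4 ≤ Fintype.card Ω) (hr : Commute r ζ)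
    (h2 : r * r = 1) (h1 : q r ≠ 1) : ∃ u ∈ L, u * r * u⁻¹ = r * ζ := by
  have hτ := invol_of_mul_self (τ := q r) (by rw [← h.mul hr hr, h2, h.p_one])
  obtain ⟨a, ha⟩ : ∃ a, q r a ≠ a := by
    by_contra! e
    exact h1 (Equiv.ext e)
  by_cases hb : ∃ b, Ap (q r) a b
  · obtain ⟨b, n⟩ := hb
    obtain ⟨v, hv, ev⟩ := h.exists_lift n.sign
    have hn := n.nodup hτ
    simp only [List.nodup_cons, List.mem_cons, List.not_mem_nil, not_or] at hn
    obtain ⟨⟨n1, n2, n3, -⟩, ⟨n4, n5, -⟩, ⟨n6, -⟩, -⟩ := hn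
    obtain ⟨w, hw, ew⟩ := h.exists_lift (sign_dt n2 n5)
    have hz := (h.comm_z hv).inv_left.mul_left hr
    have hcw : Commute (v⁻¹ * r) w := h.commute_of_fix (P := {a, q r a, b, q r b}) hz
      (fun x hx => by
        rw [h.mul (h.comm_z hv).inv_left hr, h.p_inv (h.comm_z hv), ev, n.strip_apply hτ,
          if_pos (by simpa using hx)]) hw
      (ew ▸ dt_mem_altOn n2 n5 (by simp) (by simp) (by simp) (by simp))
    have ha : w * v = v * w * ζ := anti h hw hv
      (sq_dt h (by simp [n1, n2, n3, Ne.symm n4, n5, n6]) hw ew) (sq_dt h (n.nodup hτ) hv ev)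
      (sq_dt h (a := a) (b := q r b) (c := q r a) (d := b)
        (by simp [n1, n3, n4, Ne.symm n5, Ne.symm n6, n2]) (mul_mem hw hv) (by
        rw [h.mul (h.comm_z hw) (h.comm_z hv), ew, ev]
        ext x
        simp only [cy, Perm.mul_apply, swap_apply_def]
        grind))
    refine ⟨w, hw, ?_⟩
    calc w * r * w⁻¹ = w * v * (v⁻¹ * r) * w⁻¹ := by group
      _ = v * (w * ζ * (v⁻¹ * r)) * w⁻¹ := by rw [ha]; group
      _ = v * (v⁻¹ * r * (ζ * w)) * w⁻¹ := by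
        rw [(h.comm_z hw).eq, (hz.symm.mul_left hcw.symm).eq]
      _ = r * ζ := by group
  · obtain ⟨c, -, hc⟩ := exists_not_mem_of_card (S := Finset.univ) (T := {a, q r a})
      (Finset.card_le_two.trans_lt (by rw [Finset.card_univ]; omega))
    obtain ⟨d, -, hd⟩ := exists_not_mem_of_card (S := Finset.univ) (T := {a, q r a, c})
      (Finset.card_le_three.trans_lt (by rw [Finset.card_univ]; omega))
    simp only [Finset.mem_insert, Finset.mem_singleton, not_or] at hc hd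
    have fc : q r c = c := by
      by_contra e
      exact hb ⟨c, ha, e, hc.1, hc.2⟩
    have fd : q r d = d := by
      by_contra e
      exact hb ⟨d, ha, e, hd.1, hd.2.1⟩
    obtain ⟨v, hv, ev⟩ := h.exists_lift (sign_dt hc.1 hd.2.1)
    have hv' := h.norm hr hv
    have ev' : q (r * v * r⁻¹) = swap c (q r a) * swap d a := by
      rw [h.p_conj hr (h.comm_z hv), ev, show ∀ x y : Perm Ω, q r * (x * y) * (q r)⁻¹ =
        q r * x * (q r)⁻¹ * (q r * y * (q r)⁻¹) from fun x y => by group, ← swap_apply_apply,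
        ← swap_apply_apply, fc, fd, hτ]
    have ha' := anti h hv hv'
      (sq_dt h (by simp [hc.1, hc.2, Ne.symm hd.1, hd.2.1, Ne.symm hd.2.2, ha.symm]) hv ev)
      (sq_dt h (by simp [hc.1, hc.2, hd.1, Ne.symm hd.2.1, Ne.symm hd.2.2, ha]) hv' ev')
      (sq_dt h (a := c) (b := d) (c := a) (d := q r a)
        (by simp [hc.1, hc.2, hd.1, hd.2.1, Ne.symm hd.2.2, ha.symm]) (mul_mem hv hv') (by
        rw [h.mul (h.comm_z hv) (h.comm_z hv'), ev, ev']
        ext x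
        simp only [Perm.mul_apply, swap_apply_def]
        grind))
    have ri : r⁻¹ = r := inv_eq_of_mul_eq_one_right h2
    refine ⟨r * v * r⁻¹ * v, mul_mem hv' hv, ?_⟩
    rw [mul_inv_eq_iff_eq_mul, mul_assoc r ζ, ← (h.comm_z (mul_mem hv' hv)).eq, ← ha', ri]
    simp only [mul_assoc]

/-- An involution centralising a Sylow subgroup of `L` is not conjugate to its product with `ζ`. -/
theorem false_of_sylow {P : Subgroup X} (h : SC ζ L q) (hP : IsSylowIn 2 P L)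
    (hc : ∀ x ∈ P, Commute x r) (hu : u ∈ L) (e : u * r * u⁻¹ = r * ζ) : False := by
  have zz := h.mul_self
  have cj : ∀ {x : X}, x ∈ L → ∀ y, x * (y * ζ) * x⁻¹ = x * y * x⁻¹ * ζ := fun {x} hx y => by
    rw [mul_assoc _ _ ζ, (h.comm_z (inv_mem hx)).eq]; group
  let A : Subgroup X :=
    { carrier := {x | x ∈ L ∧ (x * r * x⁻¹ = r ∨ x * r * x⁻¹ = r * ζ)}
      one_mem' := ⟨one_mem _, Or.inl (by group)⟩
      mul_mem' := fun {x y} hx hy => ⟨mul_mem hx.1 hy.1, by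
        rw [show x * y * r * (x * y)⁻¹ = x * (y * r * y⁻¹) * x⁻¹ by group]
        rcases hy.2 with e2 | e2
        · rw [e2]; exact hx.2
        · rw [e2, cj hx.1]
          rcases hx.2 with e1 | e1
          · right; rw [e1]
          · left; rw [e1, mul_assoc, zz, mul_one]⟩
      inv_mem' := fun {x} hx => ⟨inv_mem hx.1, by
        rcases hx.2 with e1 | e1
        · left; nth_rewrite 1 [← e1]; group
        · right
          have : r = x * (r * ζ) * x⁻¹ := by rw [cj hx.1, e1, mul_assoc, zz, mul_one]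
          nth_rewrite 1 [this]; group⟩ }
  have hA : IsSylowIn 2 P A := hP.mono (fun x hx => ⟨hP.le hx, Or.inl (by
    rw [(hc x hx).eq, mul_inv_cancel_right])⟩) fun x hx => hx.1
  apply hA.not_dvd_relIndex_of_le (K := centralizer {r}) fun x hx =>
    mem_centralizer_singleton_iff.2 (hc x hx).eq
  have nz : r * ζ ≠ r := fun e => h.ne_one (mul_eq_left.1 e)
  have : (centralizer {r}).relIndex A = 2 := relIndex_eq_two_iff.2 ⟨u, ⟨hu, Or.inr e⟩, fun b hb => by
    rw [mem_centralizer_singleton_iff, mem_centralizer_singleton_iff, ← mul_inv_eq_iff_eq_mul,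
      ← mul_inv_eq_iff_eq_mul (a := b * r), show b * u * r * (b * u)⁻¹ = b * (u * r * u⁻¹) * b⁻¹ by
        group, e, cj hb.1]
    rcases hb.2 with e1 | e1
    · rw [e1]; exact Or.inr ⟨rfl, nz⟩
    · rw [e1, mul_assoc, zz, mul_one]; exact Or.inl ⟨rfl, nz⟩⟩
  rw [this]

end Model

end Cfsg.Lib.Int2.IP
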