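import Mathlib.GroupTheory.Perm.Cycle.Type
import Mathlib.GroupTheory.Perm.Fin

/-! Int2: connectivity of the involutions of support eight. -/

set_option autoImplicit false

namespace Cfsg.Lib.Int2.SP

open Equiv Equiv.Perm

variable {α β : Type*} [Fintype α] [DecidableEq α] [Fintype β] [DecidableEq β]

/-- Involutions moving eight points. -/
def I8 (τ : Perm α) : Prop := τ * τ = 1 ∧ τ.support.card = 8

/-- Commuting involutions moving eight points whose product moves `0` or `8` points mod `8`. -/
def R (τ σ : Perm α) : Prop := I8 τ ∧ I8 σ ∧ τ * σ = σ * τ ∧ 8 ∣ (τ * σ).support.card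

instance instDecI8 (τ : Perm α) : Decidable (I8 τ) := by unfold I8; infer_instance

instance instDecR (τ σ : Perm α) : Decidable (R τ σ) := by unfold R; infer_instance

/-- Connected through `R`. -/
def E : Perm α → Perm α → Prop := Relation.ReflTransGen R

theorem R.symm {τ σ : Perm α} (h : R τ σ) : R σ τ := ⟨h.2.1, h.1, h.2.2.1.symm, h.2.2.1 ▸ h.2.2.2⟩

theorem E.symm {τ σ : Perm α} (h : E τ σ) : E σ τ := by
  induction h with
  | refl => exact .refl
  | tail _ e ih => exact .head e.symm ih

theorem E.map {τ σ : Perm α} (h : E τ σ) (f : Perm α →* Perm β)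
    (hf : ∀ x, (f x).support.card = x.support.card) : E (f τ) (f σ) := by
  have key : ∀ {x : Perm α}, I8 x → I8 (f x) := fun hx =>
    ⟨by rw [← map_mul, hx.1, map_one], by rw [hf, hx.2]⟩
  induction h with
  | refl => exact .refl
  | tail _ e ih =>
    exact .tail ih ⟨key e.1, key e.2.1, by rw [← map_mul, e.2.2.1, map_mul],
      by rw [← map_mul, hf]; exact e.2.2.2⟩

theorem E.conj {τ σ : Perm α} (h : E τ σ) (g : Perm α) : E (g * τ * g⁻¹) (g * σ * g⁻¹) :=
  h.map (MulAut.conj g).toMonoidHom fun _ => card_support_conj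

/-- The stabiliser of a connected component. -/
def H (τ : Perm α) : Subgroup (Perm α) where
  carrier := {g | E τ (g * τ * g⁻¹)}
  one_mem' := by
    show E τ (1 * τ * 1⁻¹)
    rw [one_mul, inv_one, mul_one]; exact .refl
  mul_mem' {g h} hg hh := by
    have : E τ (g * (h * τ * h⁻¹) * g⁻¹) := Relation.ReflTransGen.trans hg (E.conj hh g)
    show E τ _
    convert this using 1; group
  inv_mem' {g} hg := by
    have := (E.conj hg g⁻¹).symm
    simpa [mul_assoc] using this

theorem mem_H {τ σ g : Perm α} (h : E τ σ) (hg : g * σ = σ * g) : g ∈ H τ := by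
  have := (h.conj g).symm
  rw [hg, mul_inv_cancel_right] at this
  exact Relation.ReflTransGen.trans h this

theorem I8.isConj {τ σ : Perm α} (h : I8 τ) (h' : I8 σ) : IsConj τ σ := by
  have key : ∀ {x : Perm α}, I8 x → x.cycleType = Multiset.replicate 4 2 := fun {x} hx => by
    have h1 := cycleType_of_pow_prime_eq_one (σ := x) (p := 2) (by rw [pow_two, hx.1])
    have h2 := x.sum_cycleType
    rw [h1, Multiset.sum_replicate, hx.2, smul_eq_mul] at h2
    rw [h1, show x.cycleType.card = 4 by omega]
  exact isConj_of_cycleType_eq ((key h).trans (key h').symm)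

theorem E.of_top {τ σ σ' : Perm α} (h : H τ = ⊤) (h0 : I8 τ) (h1 : I8 σ) (h2 : I8 σ') :
    E σ σ' := by
  obtain ⟨g, rfl⟩ := isConj_iff.1 (h0.isConj h1)
  obtain ⟨g', rfl⟩ := isConj_iff.1 (h0.isConj h2)
  exact Relation.ReflTransGen.trans (E.symm (h.ge (Subgroup.mem_top g)))
    (h.ge (Subgroup.mem_top g'))

theorem eq_top_of_adj {n : ℕ} {X : Subgroup (Perm (Fin (n + 1)))}
    (h : ∀ i : Fin n, swap i.castSucc i.succ ∈ X) : X = ⊤ := by
  refine eq_top_iff.2 fun g _ => ?_
  have : Submonoid.closure (Set.range fun i : Fin n ↦ swap i.castSucc i.succ) ≤ X.toSubmonoid :=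
    Submonoid.closure_le.2 (Set.range_subset_iff.2 h)
  rw [mclosure_swap_castSucc_succ] at this
  exact this (Submonoid.mem_top g)

/-- The standard involution on eight points. -/
def t8 : Perm (Fin 8) := swap 0 1 * swap 2 3 * swap 4 5 * swap 6 7

/-- The standard involution on ten points. -/
def t10 : Perm (Fin 10) := swap 0 1 * swap 2 3 * swap 4 5 * swap 6 7

theorem H_t8 : H t8 = ⊤ := by
  refine eq_top_of_adj fun i => ?_
  have h1 : R t8 (swap 1 2 * swap 0 3 * swap 4 6 * swap 5 7) := by decide +kernel
  have h3 : R t8 (swap 3 4 * swap 2 5 * swap 0 6 * swap 1 7) := by decide +kernel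
  have h5 : R t8 (swap 5 6 * swap 4 7 * swap 0 2 * swap 1 3) := by decide +kernel
  fin_cases i
  · exact mem_H .refl (by decide +kernel)
  · exact mem_H (.single h1) (by decide +kernel)
  · exact mem_H .refl (by decide +kernel)
  · exact mem_H (.single h3) (by decide +kernel)
  · exact mem_H .refl (by decide +kernel)
  · exact mem_H (.single h5) (by decide +kernel)
  · exact mem_H .refl (by decide +kernel)

theorem H_t10 : H t10 = ⊤ := by
  refine eq_top_of_adj fun i => ?_
  have h1 : R t10 (swap 1 2 * swap 0 3 * swap 4 6 * swap 5 7) := by decide +kernel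
  have h3 : R t10 (swap 3 4 * swap 2 5 * swap 0 6 * swap 1 7) := by decide +kernel
  have h5 : R t10 (swap 5 6 * swap 4 7 * swap 0 2 * swap 1 3) := by decide +kernel
  have h7 : R t10 (swap 6 7 * swap 0 2 * swap 1 3 * swap 8 9) := by decide +kernel
  have h8 : R (swap 6 7 * swap 0 2 * swap 1 3 * swap 8 9 : Perm (Fin 10))
    (swap 7 8 * swap 6 9 * swap 0 1 * swap 2 3) := by decide +kernel
  fin_cases i
  · exact mem_H .refl (by decide +kernel)
  · exact mem_H (.single h1) (by decide +kernel)
  · exact mem_H .refl (by decide +kernel)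
  · exact mem_H (.single h3) (by decide +kernel)
  · exact mem_H .refl (by decide +kernel)
  · exact mem_H (.single h5) (by decide +kernel)
  · exact mem_H .refl (by decide +kernel)
  · exact mem_H (.tail (.single h7) h8) (by decide +kernel)
  · exact mem_H .refl (by decide +kernel)

/-- A permutation supported in `S` comes from the model. -/
theorem exists_model {n : ℕ} {S : Finset α} (e : Fin n ≃ {x // x ∈ S}) {τ : Perm α}
    (h : τ.support ⊆ S) : ∃ σ : Perm (Fin n), extendDomainHom e σ = τ := by
  have hS : ∀ x, τ x ∈ S ↔ x ∈ S := fun x => by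
    by_cases hx : τ x = x
    · rw [hx]
    · exact ⟨fun _ => h (mem_support.2 hx), fun _ => h (apply_mem_support.2 (mem_support.2 hx))⟩
  refine ⟨e.symm.permCongr (τ.subtypePerm hS), Equiv.ext fun x => ?_⟩
  by_cases hx : x ∈ S
  · rw [extendDomainHom_apply, extendDomain_apply_subtype _ _ hx]; simp
  · rw [extendDomainHom_apply, extendDomain_apply_not_subtype _ _ hx]
    exact (notMem_support.1 fun e => hx (h e)).symm

theorem I8.of_model {n : ℕ} {S : Finset α} (e : Fin n ≃ {x // x ∈ S}) {σ : Perm (Fin n)}
    (h : I8 (extendDomainHom e σ)) : I8 σ :=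
  ⟨extendDomainHom_injective e (by rw [map_mul, h.1, map_one]),
    (card_support_extend_domain e).symm.trans h.2⟩

theorem E.of_support {τ σ : Perm α} (h : I8 τ) (h' : I8 σ) (e : τ.support = σ.support) :
    E τ σ := by
  let f := (τ.support.equivFinOfCardEq h.2).symm
  obtain ⟨x, hx⟩ := exists_model f (τ := τ) subset_rfl
  obtain ⟨y, hy⟩ := exists_model f (τ := σ) e.ge
  have := (E.of_top H_t8 (by decide +kernel) (I8.of_model f (hx ▸ h)) (I8.of_model f (hy ▸ h'))).map
    (extendDomainHom f) fun _ => card_support_extend_domain f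
  rwa [hx, hy] at this

theorem I8.exists_R {τ : Perm α} (h : I8 τ) : ∃ σ, R τ σ ∧ σ ≠ τ := by
  let f := (τ.support.equivFinOfCardEq h.2).symm
  obtain ⟨x, hx⟩ := exists_model f (τ := τ) subset_rfl
  obtain ⟨g, rfl⟩ := isConj_iff.1 ((show I8 t8 by decide +kernel).isConj (I8.of_model f (hx ▸ h)))
  have h1 : R t8 (swap 1 2 * swap 0 3 * swap 4 6 * swap 5 7) := by decide +kernel
  let φ := (extendDomainHom f).comp (MulAut.conj g).toMonoidHom
  have hφ : ∀ x, (φ x).support.card = x.support.card := fun _ =>
    (card_support_extend_domain f).trans card_support_conj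
  have hi : Function.Injective φ := (extendDomainHom_injective f).comp (MulAut.conj g).injective
  have ht : φ t8 = τ := hx
  refine ⟨φ (swap 1 2 * swap 0 3 * swap 4 6 * swap 5 7), ⟨h, ⟨?_, ?_⟩, ?_, ?_⟩, fun e => ?_⟩
  · rw [← map_mul, h1.2.1.1, map_one]
  · rw [hφ, h1.2.1.2]
  · rw [← ht, ← map_mul, h1.2.2.1, map_mul]
  · rw [← ht, ← map_mul, hφ]; exact h1.2.2.2
  · exact absurd (hi (e.trans ht.symm)) (by decide +kernel)

theorem E.of_ten (hc : 10 ≤ Fintype.card α) {τ σ : Perm α} (h : I8 τ) (h' : I8 σ) : E τ σ := by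
  obtain ⟨S, -, hS⟩ := Finset.exists_subset_card_eq (s := (Finset.univ : Finset α)) hc
  let f := (S.equivFinOfCardEq hS).symm
  have hf : ∀ x : Perm (Fin 10), (extendDomainHom f x).support.card = x.support.card :=
    fun _ => card_support_extend_domain f
  have h0 : I8 t10 := by decide +kernel
  refine E.of_top (τ := extendDomainHom f t10) ?_
    ⟨by rw [← map_mul, h0.1, map_one], by rw [hf, h0.2]⟩ h h'
  have key : ∀ x, swap x (f 9 : α) ∈ H (extendDomainHom f t10) := by
    intro x
    by_cases hx : x ∈ S
    · obtain ⟨s, hs⟩ := exists_model f (τ := swap x (f 9 : α)) (by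
        intro y hy
        by_contra hy'
        exact mem_support.1 hy (swap_apply_of_ne_of_ne (fun e => hy' (e ▸ hx))
          fun e => hy' (e ▸ (f 9).2)))
      have := E.map (H_t10.ge (Subgroup.mem_top s)) (extendDomainHom f) hf
      rw [map_mul, map_mul, map_inv, hs] at this
      exact this
    · refine mem_H .refl ?_
      have h1 : extendDomainHom f t10 x = x := extendDomain_apply_not_subtype _ _ hx
      have h2 : extendDomainHom f t10 (f 9) = f 9 := by
        rw [extendDomainHom_apply, extendDomain_apply_image, show t10 9 = 9 by decide +kernel]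
      have := swap_apply_apply (extendDomainHom f t10) x (f 9)
      rw [h1, h2] at this
      exact eq_mul_inv_iff_mul_eq.1 this
  rw [eq_top_iff, ← closure_isSwap, Subgroup.closure_le]
  rintro _ ⟨x, y, hxy, rfl⟩
  by_cases hx : x = f 9
  · rw [hx, swap_comm]; exact key y
  have := swap_apply_apply (swap y (f 9 : α)) x (f 9)
  rw [swap_apply_of_ne_of_ne hxy hx, swap_apply_right] at this
  rw [this]
  exact mul_mem (mul_mem (key y) (key x)) (inv_mem (key y))

theorem E.of_card (h8 : 8 ≤ Fintype.card α) {τ σ : Perm α} (h : I8 τ) (h' : I8 σ)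
    (hs : Fintype.card α ≠ 9 ∨ τ.support = σ.support) : E τ σ := by
  rcases hs with hs | hs
  · by_cases hc : 10 ≤ Fintype.card α
    · exact E.of_ten hc h h'
    · refine E.of_support h h' ?_
      rw [Finset.eq_univ_of_card τ.support (by rw [h.2]; omega),
        Finset.eq_univ_of_card σ.support (by rw [h'.2]; omega)]
  · exact E.of_support h h' hs

end Cfsg.Lib.Int2.SP
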