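import Cfsg.Agent.DC.Std

/-! Pair analysis for two double covers linked through a common group (helper56). -/

set_option autoImplicit false

open Equiv Subgroup
open scoped commutatorElement

namespace Cfsg.Lib.Int2

open Cfsg.Lib.DC Cfsg.Lib.Known

variable {Ω : Type*} [Fintype Ω] [DecidableEq Ω]

section Cov
variable {H : Type*} [Group H] {ζ : H} {π : H →* Perm Ω} {t y : H}

theorem ap_mem_altOn {τ : Perm Ω} {a b : Ω} (h : Ap τ a b) :
    cy τ a * cy τ b ∈ altOn {x | τ x ≠ x} :=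
  altOn_mono (by
    intro x hx
    simp only [Set.mem_insert_iff, Set.mem_singleton_iff] at hx
    rcases hx with rfl | rfl | rfl | rfl
    exacts [h.left, by simpa using h.left, h.right, by simpa using h.right]) h.mem_altOn

theorem norm_mem_altOn (hy : Commute y t) {a b : Ω} (h : Ap (π t) a b) {u : H}
    (hu : π u = cy (π t) a * cy (π t) b) :
    π (u * (y * u * y⁻¹) * (y * (y * u * y⁻¹) * y⁻¹)) ∈ altOn {x | π t x ≠ x} := by
  have hm := hy.map π
  have hu1 : π (y * u * y⁻¹) = cy (π t) (π y a) * cy (π t) (π y b) := by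
    rw [map_mul, map_mul, map_inv, hu, conj_cy_cy hm]
  have hu2 : π (y * (y * u * y⁻¹) * y⁻¹) = cy (π t) (π y (π y a)) * cy (π t) (π y (π y b)) := by
    rw [map_mul, map_mul, map_inv, hu1, conj_cy_cy hm]
  rw [map_mul, map_mul π u, hu2, hu1, hu]
  exact mul_mem (mul_mem (ap_mem_altOn h) (ap_mem_altOn (h.map hm)))
    (ap_mem_altOn ((h.map hm).map hm))

theorem exists_commutator' (hc : Cov ζ π) (hτ : ∀ x, π t (π t x) = x) (hy : Commute y t)
    (h3 : y ^ 3 = 1) {a b c : Ω} (hab : ∀ x ∈ tri (π y) a, Ap (π t) x b)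
    (hac : ∀ x ∈ tri (π y) a, Ap (π t) x c) (hbc : ∀ x ∈ tri (π y) b, Ap (π t) x c) :
    ∃ u w : H, Commute u t ∧ Commute u y ∧ Commute w t ∧ Commute w y ∧ ⁅u, w⁆ = ζ ∧
      π u ∈ altOn {x | π t x ≠ x} ∧ π w ∈ altOn {x | π t x ≠ x} := by
  have hm := hy.map π
  have e3 := cube_apply (σ := π y) (by rw [← map_pow, h3, map_one])
  have h1 := hab a (by simp [tri])
  have h2 := hbc b (by simp [tri])
  obtain ⟨u, hu⟩ := hc.exists_lift h1.sign
  obtain ⟨w, hw⟩ := hc.exists_lift h2.sign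
  obtain ⟨u1, u2⟩ := hc.norm_commute hτ hy h3 h1 hu
  obtain ⟨w1, w2⟩ := hc.norm_commute hτ hy h3 h2 hw
  refine ⟨_, _, u1, u2, w1, w2, ?_, norm_mem_altOn hy h1 hu, norm_mem_altOn hy h2 hw⟩
  have hu1 : π (y * u * y⁻¹) = cy (π t) (π y a) * cy (π t) (π y b) := by
    rw [map_mul, map_mul, map_inv, hu, conj_cy_cy hm]
  have hu2 : π (y * (y * u * y⁻¹) * y⁻¹) = cy (π t) (π y (π y a)) * cy (π t) (π y (π y b)) := by
    rw [map_mul, map_mul, map_inv, hu1, conj_cy_cy hm]
  have a0 := hc.anti_cy hτ h1 h2 (hac a (by simp [tri])) hu hw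
  have key : u * (y * u * y⁻¹) * (y * (y * u * y⁻¹) * y⁻¹) * w =
      w * (u * (y * u * y⁻¹) * (y * (y * u * y⁻¹) * y⁻¹)) * ζ := by
    by_cases hb : π y b = b
    · rw [hb] at hu1
      rw [hb, hb] at hu2
      have a1 := hc.anti_cy hτ (hab _ (by simp [tri])) h2 (hac _ (by simp [tri])) hu1 hw
      have a2 := hc.anti_cy hτ (hab _ (by simp [tri])) h2 (hac _ (by simp [tri])) hu2 hw
      have := tw_mul_left (fun h => (hc.cent h).mul_right (hc.cent h))
        (tw_mul_left hc.cent a0 a1) a2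
      rwa [hc.mul_self, one_mul] at this
    · have e := comm_apply hm
      have b1 : Ap (π t) (π y b) b := by
        refine ⟨by rw [← e]; simpa using h2.left, h2.left, Ne.symm hb, fun e' => ?_⟩
        have := e b
        have := e (π y b)
        have := hτ b
        have := hτ (π y b)
        have := e3 b
        have := e3 (π t b)
        have := h2.left
        grind
      have b2 : Ap (π t) (π y (π y b)) b := by
        have := (b1.map hm).map hm
        rw [e3] at this
        exact this.symm hτ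
      have a1 := hc.commute_cy hτ (h1.map hm) h2 (hab _ (by simp [tri])) (hac _ (by simp [tri]))
        b1 (hbc _ (by simp [tri])) hu1 hw
      have a2 := hc.commute_cy hτ ((h1.map hm).map hm) h2 (hab _ (by simp [tri]))
        (hac _ (by simp [tri])) b2 (hbc _ (by simp [tri])) hu2 hw
      have := tw_mul_left (d := 1) (fun h => (hc.cent h).mul_right (Commute.one_right h))
        (tw_mul_left (d := 1) hc.cent a0 (by rw [a1.eq, mul_one])) (by rw [a2.eq, mul_one])
      simpa only [mul_one] using this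
  have k1 := mul_norm_of_commute u2.symm hc.cent key
  have k2 := mul_norm_of_commute u2.symm hc.cent k1
  have := tw_mul_right (fun h => (hc.cent h).mul_right (hc.cent h))
    (tw_mul_right hc.cent key k1) k2
  rw [hc.mul_self, one_mul] at this
  rw [commutatorElement_def, this, mul_assoc _ ζ, ← (hc.cent _).eq, ← mul_assoc,
    mul_inv_cancel_right, mul_assoc _ ζ, ← (hc.cent _).eq, ← mul_assoc, mul_inv_cancel, one_mul]

theorem exists_commutator_of_card' (hc : Cov ζ π) (hτ : ∀ x, π t (π t x) = x) (hy : Commute y t)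
    (h3 : y ^ 3 = 1) {m : ℕ} (hm : ∀ a ∈ (π t).support, (tri (π y) a).card ≤ m)
    (h : 4 * m < (π t).support.card) :
    ∃ u w : H, Commute u t ∧ Commute u y ∧ Commute w t ∧ Commute w y ∧ ⁅u, w⁆ = ζ ∧
      π u ∈ altOn {x | π t x ≠ x} ∧ π w ∈ altOn {x | π t x ≠ x} := by
  have h2 : ∀ a ∈ (π t).support, (tri (π y) a ∪ tri (π y) (π t a)).card ≤ 2 * m := fun a ha =>
    (Finset.card_union_le _ _).trans (by
      have := hm a ha
      have := hm (π t a) (Perm.apply_mem_support.2 ha)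
      omega)
  obtain ⟨a, ha, -⟩ := exists_not_mem_of_card (S := (π t).support) (T := ∅)
    (by rw [Finset.card_empty]; omega)
  obtain ⟨b, hb, hab⟩ := exists_not_mem_of_card (S := (π t).support)
    (T := tri (π y) a ∪ tri (π y) (π t a)) (by have := h2 a ha; omega)
  obtain ⟨c, hc', hbc⟩ := exists_not_mem_of_card (S := (π t).support)
    (T := (tri (π y) a ∪ tri (π y) (π t a)) ∪ (tri (π y) b ∪ tri (π y) (π t b)))
    ((Finset.card_union_le _ _).trans_lt (by have := h2 a ha; have := h2 b hb; omega))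
  rw [Finset.mem_union, not_or] at hbc
  rw [Perm.mem_support] at ha hb hc'
  exact exists_commutator' hc hτ hy h3 (Cov.ap_of_not_mem hy ha hb hab)
    (Cov.ap_of_not_mem hy ha hc' hbc.1) (Cov.ap_of_not_mem hy hb hc' hbc.2)

end Cov

section Res
variable {H : Type*} [Group H]

omit [Fintype Ω] in
/-- The restriction of an action to the points moved by a central element. -/
theorem exists_res (P : H →* Perm Ω) {t : H} (ht : ∀ g, Commute g t) :
    ∃ r : H →* Perm Ω, ∀ g x, r g x = if P t x = x then x else P g x := by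
  have e : ∀ g x, P t (P g x) = P g x ↔ P t x = x := fun g x => by
    rw [← comm_apply ((ht g).map P)]; exact (P g).injective.eq_iff
  let ρ : H → Perm Ω := fun g =>
    { toFun := fun x => if P t x = x then x else P g x
      invFun := fun x => if P t x = x then x else P g⁻¹ x
      left_inv := fun x => by
        by_cases h : P t x = x
        · simp only [h, if_true]
        · simp only [h, if_false, e]
          simp
      right_inv := fun x => by
        by_cases h : P t x = x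
        · simp only [h, if_true]
        · simp only [h, if_false, e]
          simp }
  have hρ : ∀ g x, ρ g x = if P t x = x then x else P g x := fun _ _ => rfl
  refine ⟨MonoidHom.mk' ρ fun a b => Equiv.ext fun x => ?_, hρ⟩
  rw [Perm.mul_apply, hρ, hρ, hρ]
  by_cases h : P t x = x
  · simp only [h, if_true]
  · simp only [h, if_false, e, map_mul, Perm.mul_apply]

end Res

/-- One half of the data. -/
structure Hf {H X : Type*} [Group H] [Group X] (z t : H) (F : H →* X) (L : Subgroup X)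
    (q : X → Perm Ω) (r r' : H →* Perm Ω) : Prop where
  sc : SC (F z) L q
  cen : ∀ x, Commute x (F z)
  ct : ∀ g, Commute g t
  t2 : t * t = 1
  lift : ∀ y ∈ L, Commute y (F t) → ∃ k, F k = y
  res : ∀ g x, r g x = if q (F t) x = x then x else q (F g) x
  ker : ∀ g, F g = 1 → r' g = 1
  ne : q (F t) ≠ 1
  dvd : 8 ∣ (q (F t)).support.card
  sign : Perm.sign (q (F t)) = 1

namespace Hf

variable {H X X' : Type*} [Group H] [Group X] [Group X'] {z t : H} {F : H →* X} {L : Subgroup X}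
  {q : X → Perm Ω} {r r' : H →* Perm Ω} {F' : H →* X'} {L' : Subgroup X'} {q' : X' → Perm Ω}

theorem r_t (h : Hf z t F L q r r') : r t = q (F t) := Equiv.ext fun x => by
  rw [h.res]; split_ifs with e
  exacts [e.symm, rfl]

theorem eq_of (h : Hf z t F L q r r') {a b : H} (e : F a = F b) : r' a = r' b := by
  have := h.ker (a * b⁻¹) (by rw [map_mul, map_inv, e, mul_inv_cancel])
  rwa [map_mul, map_inv, mul_inv_eq_one] at this

theorem comm (h : Hf z t F L q r r') {a b : H} (e : Commute (F a) (F b)) :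
    Commute (r' a) (r' b) := by
  have := h.eq_of (a := a * b) (b := b * a) (by rw [map_mul, map_mul, e.eq])
  rwa [map_mul, map_mul] at this

theorem cube (h : Hf z t F L q r r') {a : H} (e : F a ^ 3 = 1) : r' a ^ 3 = 1 := by
  rw [← map_pow]; exact h.ker _ (by rw [map_pow, e])

theorem r_sq (h : Hf z t F L q r r') : r t * r t = 1 := by rw [← map_mul, h.t2, map_one]

theorem r_comm (h : Hf z t F L q r r') (g : H) : Commute (r g) (r t) := (h.ct g).map r

theorem r_ne (h : Hf z t F L q r r') : r t ≠ 1 := h.r_t ▸ h.ne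

theorem r_off (h : Hf z t F L q r r') (g : H) {x : Ω} (e : r t x = x) : r g x = x := by
  rw [h.res, if_pos (h.r_t ▸ e)]

theorem r_on (h : Hf z t F L q r r') (g : H) {x : Ω} (e : r t x ≠ x) : r g x = q (F g) x := by
  rw [h.res, if_neg (h.r_t ▸ e)]

theorem r_eq_one (h : Hf z t F L q r r') {g : H} (e : ∀ x, r t x ≠ x → r g x = x) : r g = 1 :=
  Equiv.ext fun x => by
    by_cases hx : r t x = x
    exacts [h.r_off g hx, e x hx]

theorem eight_le (h : Hf z t F L q r r') : 8 ≤ (r t).support.card :=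
  Nat.le_of_dvd (Nat.pos_of_ne_zero (by simpa using h.r_ne)) (h.r_t ▸ h.dvd)

theorem exists_l (h : Hf z t F L q r r') :
    ∃ l ∈ L, q l = r t ∧ l⁻¹ * F t ∈ centralizer (L : Set X) := by
  obtain ⟨l, hl, e, hk⟩ := h.sc.exists_dec (h.cen _) h.sign
  exact ⟨l, hl, e.trans h.r_t.symm, hk⟩

theorem key (h : Hf z t F L q r r') (h' : Hf t z F' L' q' r' r) {y : H} (y3 : r y ^ 3 = 1)
    {m : ℕ} (hm : ∀ a ∈ (r t).support, (tri (r y) a).card ≤ m)
    (h4 : 4 * m < (r t).support.card) {a : Ω} (a1 : r' y a ≠ a) (a2 : r' z a ≠ a) :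
    ¬ ∀ x, r' y x ≠ x → r' z x ≠ x → x ∈ tri (r' y) a ∪ tri (r' y) (r' z a) := fun hp => by
  obtain ⟨l, hl, e, hk⟩ := h.exists_l
  have hs : Perm.sign (r y) = 1 := by
    have := congrArg Perm.sign y3
    rwa [map_pow, pow_three, Int.units_mul_self, mul_one, map_one] at this
  obtain ⟨⟨x, hx⟩, x1, x3⟩ := h.sc.cv.exists_cube hs y3
  change q x = _ at x1
  obtain ⟨u, w, u1, u2, w1, w2, e', u5, w5⟩ := exists_commutator_of_card' h.sc.cv (t := ⟨l, hl⟩)
    (y := ⟨x, hx⟩) (m := m) (by
      change ∀ x, q l (q l x) = x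
      rw [e]; exact invol_of_mul_self h.r_sq)
    (h.sc.cv.commute_of_cube (by
      change Commute (q l) (q x)
      rw [e, x1]; exact (h.r_comm y).symm) x3).symm x3 (by
      change ∀ a ∈ (q l).support, (tri (q x) a).card ≤ m
      rwa [e, x1]) (by change _ < (q l).support.card; rwa [e])
  have aux : ∀ u : L, Commute u ⟨l, hl⟩ → Commute u ⟨x, hx⟩ → q u ∈ altOn {b | q l b ≠ b} →
      ∃ k, F k = u ∧ Commute (r' k) (r' y) := fun u u1 u2 u5 => by
    obtain ⟨k, hk'⟩ := h.lift u u.2 (SC.commute_of_dec hk u.2 (congrArg Subtype.val u1.eq))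
    refine ⟨k, hk', h.comm ?_⟩
    have c1 : Commute (x⁻¹ * F y) u := h.sc.commute_of_fix (h.cen _) (fun b hb => by
      rw [h.sc.mul (h.cen _) (h.cen _), h.sc.p_inv (h.cen _), x1, Perm.mul_apply,
        ← h.r_on y (e ▸ hb)]
      simp) u.2 u5
    have c2 : Commute (u : X) x := congrArg Subtype.val u2.eq
    have := c2.mul_right c1.symm
    rwa [mul_inv_cancel_left, ← hk'] at this
  obtain ⟨u', u6, u7⟩ := aux u u1 u2 u5
  obtain ⟨w', w6, w7⟩ := aux w w1 w2 w5
  have := commutator_fix (h'.r_comm y) a1 a2 hp u7 (h'.r_comm u') w7 (h'.r_comm w')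
  rw [← map_commutatorElement, h.eq_of (b := z) (by
    rw [map_commutatorElement, u6, w6]; exact congrArg Subtype.val e')] at this
  exact a2 this

theorem exists_six (h : Hf z t F L q r r') : ∃ (x : H) (a : Ω), F x ∈ L ∧ F x ^ 3 = 1 ∧
    r x ^ 3 = 1 ∧ r x a ≠ a ∧ r t a ≠ a ∧ (∀ y, r x y ≠ y → y ∈ tri (r x) a ∪ tri (r x) (r t a)) ∧
    ∃ u, F u ∈ L ∧ F (u * x * u⁻¹ * x⁻¹ * (u * x * u⁻¹ * x⁻¹)) = F z := by
  obtain ⟨l, hl, e, hk⟩ := h.exists_l
  have hτ : ∀ x, h.sc.res ⟨l, hl⟩ (h.sc.res ⟨l, hl⟩ x) = x := by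
    change ∀ x, q l (q l x) = x
    rw [e]; exact invol_of_mul_self h.r_sq
  obtain ⟨x, a, x1, x2, x3, x4, x5⟩ := h.sc.cv.exists_six hτ (by
    change _ < (q l).support.card
    have := h.eight_le
    rw [e]; omega)
  obtain ⟨u, u1, u2⟩ := h.sc.cv.exists_six_conj hτ x1 x2 x3 x4
  obtain ⟨x', hx'⟩ := h.lift x x.2 (SC.commute_of_dec hk x.2 (congrArg Subtype.val x1.eq))
  obtain ⟨u', hu'⟩ := h.lift u u.2 (SC.commute_of_dec hk u.2 (congrArg Subtype.val u1.eq))
  change q x a ≠ a at x3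
  change q l a ≠ a at x4
  change ∀ y, q x y ≠ y → y ∈ tri (q x) a ∪ tri (q x) (q l a) at x5
  have c : Commute (q x) (q l) := x1.map h.sc.res
  rw [e] at x4 x5 c
  have hr : r x' = q x := Equiv.ext fun b => by
    by_cases hb : r t b = b
    · rw [h.r_off _ hb]
      by_contra hn
      have := x5 b (Ne.symm hn)
      have c1 := comm_apply c
      rw [Finset.mem_union, mem_tri, mem_tri] at this
      rcases this with (rfl | rfl | rfl) | rfl | rfl | rfl <;>
        exact x4 (by simpa only [← c1, EmbeddingLike.apply_eq_iff_eq] using hb)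
    · rw [h.r_on _ hb, hx']
  have x2' : (x : X) ^ 3 = 1 := congrArg Subtype.val x2
  refine ⟨x', a, hx' ▸ x.2, hx' ▸ x2', hr ▸ h.sc.p_cube (h.cen _) x2', hr ▸ x3, x4, hr ▸ x5, u',
    hu' ▸ u.2, ?_⟩
  simp only [map_mul, map_inv, hx', hu']
  exact congrArg Subtype.val u2

theorem card_support (h : Hf z t F L q r r') (h' : Hf t z F' L' q' r' r) :
    (r t).support.card = 8 := by
  by_contra hne
  obtain ⟨k, hk⟩ := h.r_t ▸ h.dvd
  have := h.eight_le
  obtain ⟨x, a, -, x2, -, x3, x4, x5, -⟩ := h'.exists_six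
  exact h.key h' (h'.cube x2) (m := 3) (fun a _ => card_tri_le _ _) (by omega) x3 x4
    fun y hy _ => x5 y hy

theorem fix_of_fix (h : Hf z t F L q r r') (h' : Hf t z F' L' q' r' r) {y : H}
    (y3 : r' y ^ 3 = 1) (hy : r y = 1) : r' y = 1 := by
  refine h'.r_eq_one fun a ha => ?_
  by_contra a1
  refine h.key h' (y := y) (by rw [hy, one_pow]) (m := 1) (fun b _ => ?_)
    (by rw [h.card_support h']; omega) a1 ha
    fun x x1 x2 => single_orbit (h'.r_comm y) (cube_apply y3)
      (invol_of_mul_self h'.r_sq) (h'.card_support h).le a1 ha x1 x2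
  simp [tri, hy]

theorem card_le (h : Hf z t F L q r r') (h' : Hf t z F' L' q' r' r) : Fintype.card Ω ≤ 11 := by
  by_contra hn
  have h4 : 3 < ((r t).supportᶜ).card := by rw [Finset.card_compl, h.card_support h']; omega
  obtain ⟨s, hs, hs4⟩ := Finset.exists_subset_card_eq h4
  obtain ⟨i, α, j, β, n1, n2, n3, n4, n5, n6, rfl⟩ := Finset.card_eq_four.1 hs4
  have hf : ∀ x ∈ ({i, α, j, β} : Finset Ω), r t x = x := fun x hx => by simpa using hs hx
  have good : ∀ i, r t i = i → i ≠ α → i ≠ β → ∃ (y : L) (k : H), F k = y ∧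
      q y = c3 i α β ∧ r' k = 1 := fun i hi i1 i2 => by
    obtain ⟨y, hy, y3⟩ := h.sc.cv.exists_c3 i1 i2 n5
    change q y = _ at hy
    have y3' : (y : X) ^ 3 = 1 := congrArg Subtype.val y3
    have yt := h.sc.commute_of_cube (h.cen (F t)) y.2 (mul_inv_eq_iff_eq_mul.1 (by
      rw [hy, conj_c3, ← h.r_t, hi, hf α (by simp), hf β (by simp)])) y3'
    obtain ⟨k, hk⟩ := h.lift y y.2 yt.symm
    refine ⟨y, k, hk, hy, h.fix_of_fix h' (h.cube (hk ▸ y3')) (h.r_eq_one fun b hb => ?_)⟩
    have := hf α (by simp)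
    have := hf β (by simp)
    rw [h.r_on _ hb, hk, hy, c3_apply_of_ne] <;> rintro rfl <;> contradiction
  obtain ⟨x, x', x0, x1, x2⟩ := good i (hf i (by simp)) n1 n3
  obtain ⟨y, y', y0, y1, y2⟩ := good j (hf j (by simp)) n4.symm n6
  have e : ((x : X) * y) ^ 2 = F z := congrArg Subtype.val
    (h.sc.cv.letters_sq (by simp [n1, n2, n3, n4, n5, n6]) x1 y1)
  apply h'.r_ne
  rw [← h.eq_of (a := (x' * y') ^ 2) (by rw [map_pow, map_mul, x0, y0, e]), map_pow, map_mul, x2,
    y2, one_mul, one_pow]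

theorem one_or (h : Hf z t F L q r r') (h' : Hf t z F' L' q' r' r) {k : H}
    (hk : F k ∈ centralizer (L : Set X)) : r' k = 1 ∨ r' (k * z) = 1 := by
  obtain ⟨x, a, hx, x2, x2', x3, x4, x5, u, hu, u2⟩ := h.exists_six
  obtain ⟨b, b1, b2⟩ : ∃ b, r' z b ≠ b ∧ r' x b ≠ b := by
    by_contra! e
    exact x3 (by rw [h'.fix_of_fix h x2' (h'.r_eq_one e)]; rfl)
  have hy : F (u * x * u⁻¹) ∈ L := by
    rw [map_mul, map_mul, map_inv]; exact mul_mem (mul_mem hu hx) (inv_mem hu)
  have y2 : F (u * x * u⁻¹) ^ 3 = 1 := by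
    rw [map_mul, map_mul, map_inv, conj_pow, x2]; group
  rcases eq_one_or_eq_of_two (κ := r' k) (σ' := r' (u * x * u⁻¹))
    (invol_of_mul_self h'.r_sq) (h'.card_support h) (h'.r_comm x)
    (cube_apply (h.cube x2)) b2 b1 (h'.r_comm _)
    (cube_apply (h.cube y2)) (fun c c1 c2 c3 => c1 (by
      have c4 : (r' x)⁻¹ c = c := Perm.inv_eq_iff_eq.2 c2.symm
      rw [← h.eq_of u2, map_mul, map_mul r' (u * x * u⁻¹), map_inv]
      simp only [Perm.mul_apply, c3, c4]))
    (h.comm (hk _ hx).symm) (h.comm (hk _ hy).symm) (h'.r_comm k) with e | e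
  · exact Or.inl (h'.r_eq_one e)
  · exact Or.inr (h'.r_eq_one (by rwa [map_mul]))

end Hf

end Cfsg.Lib.Int2
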